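import Groth.Agent.LineLift.Kernel
import Groth.Agent.TorsPic.Main

/-!
# The `p`-th power between successive kernels of restriction maps of Picard groups
-/

set_option autoImplicit false
set_option linter.style.haveILetI false
set_option maxHeartbeats 1000000
set_option backward.isDefEq.respectTransparency false
set_option backward.isDefEq.respectTransparency.types false

universe u

open CategoryTheory CategoryTheory.Limits AlgebraicGeometry TopologicalSpace Opposite

namespace Groth.Agent.PicWitt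

open Groth.Agent Groth.Agent.AModX Groth.Agent.InvX Groth.Agent.AmpleX

/-- The binomial expansion to order two. -/
theorem one_add_pow_two {R : Type*} [CommRing R] (v : R) :
    ∀ m : ℕ, ∃ r, (1 + v) ^ m = 1 + m * v + (m.choose 2 : ℕ) * v ^ 2 + r * v ^ 3
  | 0 => ⟨0, by simp⟩
  | m + 1 => by
    obtain ⟨r, hr⟩ := one_add_pow_two v m
    refine ⟨r + r * v + (m.choose 2 : ℕ), ?_⟩
    rw [Nat.choose_succ_succ, Nat.choose_one_right, pow_succ, hr]
    push_cast
    ring

/-- The `p`-th power of a principal unit. -/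
theorem one_add_mul_pow {R : Type*} [CommRing R] {p n : ℕ} (hp : p.Prime) (hp2 : 2 < p) (hn : 1 ≤ n)
    (h0 : (p : R) ^ (n + 2) = 0) (c : R) : (1 + (p : R) ^ n * c) ^ p = 1 + (p : R) ^ (n + 1) * c := by
  obtain ⟨r, hr⟩ := one_add_pow_two ((p : R) ^ n * c) p
  obtain ⟨t, ht⟩ := hp.dvd_choose_self two_ne_zero hp2
  have h1 : (p : R) * ((p : R) ^ n) ^ 2 = 0 := by
    rw [← pow_mul, ← pow_succ']; exact pow_eq_zero_of_le (by omega) h0
  have h2 : ((p : R) ^ n) ^ 3 = 0 := by rw [← pow_mul]; exact pow_eq_zero_of_le (by omega) h0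
  rw [hr, ht, Nat.cast_mul]
  linear_combination (t : R) * c ^ 2 * h1 + r * c ^ 3 * h2

theorem app_resR' {Y Y' : Scheme.{u}} (i : Y' ⟶ Y) {V W : Y.Opens} (h : W ≤ V) (a : Γ(Y, V)) :
    i.app W (resR h a) = resR (i.preimage_mono h) (i.app V a) :=
  congrArg (fun k => k.hom a) (i.naturality (homOfLE h).op)

/-- Frames compatible with a given module on a thickening. -/
theorem exists_frame_lift {Y Y' : Scheme.{u}} (i : Y' ⟶ Y) [IsClosedImmersion i] [Surjective i] {L : Y.Modules}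
    {N : Y'.Modules} (φ : (Scheme.Modules.pullback i).obj L ≅ N) {U : Y.Opens} (hU : IsAffineOpen U) {e : Γ(L, U)}
    (he : IsFrame e) {f : Γ(N, i ⁻¹ᵁ U)} (hf : IsFrame f) :
    ∃ e' : Γ(L, U), IsFrame e' ∧ φ.hom.app (i ⁻¹ᵁ U) (pullElt i e') = f := by
  have hF := (isFrame_pullElt i he).map_iso φ
  obtain ⟨a, ha⟩ := hf.exists_coord le_rfl (φ.hom.app _ (pullElt i e))
  obtain ⟨a', ha'⟩ := hF.exists_coord le_rfl f
  rw [res_self] at ha ha'
  have hau : IsUnit a' := IsUnit.of_mul_eq_one a (hF.coord_unique le_rfl (by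
    rw [res_self, one_smul, mul_comm, mul_smul, ← ha', ← ha]))
  obtain ⟨v, hv⟩ := i.app_surjective U hU a'
  subst hv
  refine ⟨v • e, he.isUnit_smul (TorsPic.isUnit_of_isUnit_app i _ hau), ?_⟩
  rw [pullElt_smul, Scheme.Modules.Hom.app_smul]
  exact ha'.symm

section Main

variable {Y Y' : Scheme.{u}} (i : Y' ⟶ Y) [IsClosedImmersion i] [Surjective i] {p n : ℕ}

theorem main [Y.IsSeparated] {Y'' : Scheme.{u}} (j : Y'' ⟶ Y') (hp : p.Prime) (hp2 : 2 < p) (hn : 1 ≤ n)
    (hker : ∀ U : Y.affineOpens, i.ker.ideal U = Ideal.span {(p : Γ(Y, U.1)) ^ (n + 1)})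
    (hY : ∀ W : Y.Opens, (p : Γ(Y, W)) ^ (n + 2) = 0) (hY' : ∀ W : Y'.Opens, (p : Γ(Y', W)) ^ (n + 1) = 0)
    (hY'' : ∀ W : Y''.Opens, (p : Γ(Y'', W)) ^ n = 0)
    (hann : ∀ (W : Y.Opens) (a : Γ(Y, W)), (p : Γ(Y, W)) ^ (n + 1) * a = 0 → i.app W ((p : Γ(Y, W)) ^ n * a) = 0)
    (L : Y.Modules) (hL : PicF.IsInvertible L)
    (φ : (Scheme.Modules.pullback i).obj L ≅ Coh.structureModule Y') :
    ∃ M : Y'.Modules, PicF.IsInvertible M ∧ Nonempty ((Scheme.Modules.pullback j).obj M ≅ Coh.structureModule Y'') ∧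
      ∀ D : Y.Modules, PicF.IsInvertible D → Nonempty ((Scheme.Modules.pullback i).obj D ≅ M) →
        Nonempty (L ≅ CohB1.tensorPow D p) := by
  have hloc : ∀ y : Y, ∃ (U : Y.Opens) (_ : IsAffineOpen U) (_ : y ∈ U) (e : Γ(L, U)), IsFrame e ∧
      φ.hom.app (i ⁻¹ᵁ U) (pullElt i e) = (1 : Γ(Y', i ⁻¹ᵁ U)) := fun y => by
    obtain ⟨V, hyV, e, he⟩ := exists_frame hL y
    obtain ⟨_, ⟨U, hU, rfl⟩, hyU, hUV⟩ := Y.isBasis_affineOpens.exists_subset_of_mem_open (show y ∈ V from hyV) V.2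
    obtain ⟨e', he', h'⟩ := exists_frame_lift i φ hU (he.res hUV) (InvX.isFrame_one (i ⁻¹ᵁ U))
    exact ⟨U, hU, hyU, e', he', h'⟩
  choose U hU hyU e he hφe using hloc
  -- transition functions
  choose z hz using fun a b => (he b).exists_coord (inf_le_right : U a ⊓ U b ≤ U b)
    (res L (inf_le_left : U a ⊓ U b ≤ U a) (e a))
  have hiz : ∀ a b, i.app _ (z a b) = 1 := fun a b => by
    have h1 := congrArg (fun s => φ.hom.app _ (pullElt i s)) (hz a b)
    simp only [← res_pullElt, pullElt_smul, Scheme.Modules.Hom.app_smul, AModX.app_res, hφe] at h1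
    refine ((InvX.isFrame_one (i ⁻¹ᵁ U b)).coord_unique (i.preimage_mono inf_le_right) ?_).symm
    rw [one_smul, ← h1]
    exact (map_one (resR _)).trans (map_one (resR _)).symm
  have hx : ∀ a b, ∃ x, z a b = 1 + (p : Γ(Y, U a ⊓ U b)) ^ (n + 1) * x := fun a b => by
    let V : Y.affineOpens := ⟨U a ⊓ U b, (hU a).inf (hU b)⟩
    have h1 : z a b - 1 ∈ i.ker.ideal V := by
      rw [Scheme.Hom.ker_apply, RingHom.mem_ker, map_sub, map_one]
      exact sub_eq_zero.2 (hiz a b)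
    rw [hker V, Ideal.mem_span_singleton'] at h1
    obtain ⟨x, hx⟩ := h1
    refine ⟨x, ?_⟩
    rw [mul_comm] at hx
    rw [hx]; ring
  choose x hx using hx
  let X' : ∀ (a b : Y) (W : Y.Opens) (_ : W ≤ U a) (_ : W ≤ U b), Γ(Y, W) := fun a b W ha hb =>
    resR (le_inf ha hb) (x a b)
  have hz' : ∀ a b W (ha : W ≤ U a) (hb : W ≤ U b),
      res L ha (e a) = (1 + (p : Γ(Y, W)) ^ (n + 1) * X' a b W ha hb) • res L hb (e b) := fun a b W ha hb => by
    have h1 := congrArg (res L (le_inf ha hb : W ≤ U a ⊓ U b)) (hz a b)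
    rw [res_smul, res_res, res_res, hx, map_add, map_one, map_mul, map_pow, map_natCast] at h1
    exact h1
  have hδ : ∀ a b c W ha hb hc,
      (p : Γ(Y, W)) ^ (n + 1) * (X' b c W hb hc + X' a b W ha hb - X' a c W ha hc) = 0 := fun a b c W ha hb hc => by
    have h1 := (hz' a b W ha hb).trans (congrArg ((1 + (p : Γ(Y, W)) ^ (n + 1) * X' a b W ha hb) • ·) (hz' b c W hb hc))
    rw [hz' a c W ha hc, ← mul_smul] at h1
    have h2 := (he c).coord_unique hc h1
    have h3 : (p : Γ(Y, W)) ^ (2 * n + 2) = 0 := pow_eq_zero_of_le (by omega) (hY W)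
    rw [pow_add, pow_mul] at h3
    linear_combination -h2 - (X' a b W ha hb * X' b c W hb hc) * h3
  have hP : ∀ W : Y'.Opens, (p : Γ(Y', W)) ^ n * (p : Γ(Y', W)) ^ n = 0 := fun W => by
    rw [← pow_add]; exact pow_eq_zero_of_le (by omega) (hY' W)
  let gu : ∀ a b : Y, Γ(Y', i ⁻¹ᵁ U a ⊓ i ⁻¹ᵁ U b) := fun a b =>
    i.app (U a ⊓ U b) ((p : Γ(Y, U a ⊓ U b)) ^ n * x a b)
  have hgu2 : ∀ a b c d, ∀ W (h : W ≤ i ⁻¹ᵁ U a ⊓ i ⁻¹ᵁ U b) (h' : W ≤ i ⁻¹ᵁ U c ⊓ i ⁻¹ᵁ U d),
      resR h (gu a b) * resR h' (gu c d) = 0 := fun a b c d W h h' => by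
    simp only [gu, map_mul, map_pow, map_natCast]
    rw [mul_mul_mul_comm, hP, zero_mul]
  let G : ∀ a b : Y, (Γ(Y', i ⁻¹ᵁ U a ⊓ i ⁻¹ᵁ U b))ˣ := fun a b =>
    { val := 1 + gu a b
      inv := 1 - gu a b
      val_inv := by
        have := hgu2 a b a b _ le_rfl le_rfl
        simp only [resR_self] at this
        linear_combination -this
      inv_val := by
        have := hgu2 a b a b _ le_rfl le_rfl
        simp only [resR_self] at this
        linear_combination -this }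
  let t : H23.CocycleMod.Cocycle (fun a => i ⁻¹ᵁ U a) :=
    { g := G
      trans := fun a b c W ha hb hc => by
        show resR _ (1 + gu a c) = resR _ (1 + gu b c) * resR _ (1 + gu a b)
        refine eq_of_locally (M := Coh.structureModule Y') _ _ fun q hq => ?_
        obtain ⟨O, hO, hOW⟩ := i.isClosedEmbedding.isInducing.isOpen_iff.1 W.2
        let O' : Y.Opens := ⟨O, hO⟩ ⊓ (U a ⊓ U b ⊓ U c)
        have hqO : i q ∈ O' := ⟨hOW.ge hq, ⟨ha hq, hb hq⟩, hc hq⟩
        have hO'W : i ⁻¹ᵁ O' ≤ W := fun r hr => hOW.le hr.1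
        refine ⟨i ⁻¹ᵁ O', hO'W, hqO, ?_⟩
        have haO : O' ≤ U a := inf_le_right.trans (inf_le_left.trans inf_le_left)
        have hbO : O' ≤ U b := inf_le_right.trans (inf_le_left.trans inf_le_right)
        have hcO : O' ≤ U c := inf_le_right.trans inf_le_right
        show resR hO'W _ = resR hO'W _
        rw [map_mul, resR_resR, resR_resR, resR_resR]
        have e0 : ∀ s r (hs : O' ≤ U s) (hr : O' ≤ U r) (h : i ⁻¹ᵁ O' ≤ i ⁻¹ᵁ U s ⊓ i ⁻¹ᵁ U r),
            resR h (gu s r) = i.app O' ((p : Γ(Y, O')) ^ n * X' s r O' hs hr) := fun s r hs hr h => by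
          have := app_resR' i (le_inf hs hr) ((p : Γ(Y, U s ⊓ U r)) ^ n * x s r)
          rw [map_mul, map_pow, map_natCast] at this
          exact this.symm
        have h1 := hann O' _ (hδ a b c O' haO hbO hcO)
        have h2 := hgu2 b c a b (i ⁻¹ᵁ O') (le_inf (i.preimage_mono hbO) (i.preimage_mono hcO))
          (le_inf (i.preimage_mono haO) (i.preimage_mono hbO))
        rw [e0 b c hbO hcO, e0 a b haO hbO] at h2
        rw [mul_sub, mul_add, map_sub, map_add] at h1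
        simp only [map_add, map_one]
        rw [e0 a c haO hcO, e0 b c hbO hcO, e0 a b haO hbO]
        linear_combination -h1 - h2 }
  let M := H23.CocycleMod.mod t
  let f : ∀ a, Γ(M, i ⁻¹ᵁ U a) := H23.CocycleMod.frame t
  have hf : ∀ a, IsFrame (f a) := H23.CocycleMod.isFrame_frame t
  have hfr : ∀ a b, res M (inf_le_left : i ⁻¹ᵁ U a ⊓ i ⁻¹ᵁ U b ≤ i ⁻¹ᵁ U a) (f a) =
      (1 + gu a b) • res M inf_le_right (f b) := fun a b => H23.CocycleMod.res_frame t a b
  have hcov : ∀ q : Y', ∃ a, q ∈ i ⁻¹ᵁ U a := fun q => ⟨i q, hyU (i q)⟩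
  refine ⟨M, InvX.isInvertible_of_frames fun q => ⟨_, (hcov q).choose_spec, _, hf _⟩, ?_, fun D hD ⟨ψ⟩ => ?_⟩
  · refine TorsPic.nonempty_iso_of_frames (fun a => j ⁻¹ᵁ (i ⁻¹ᵁ U a)) (fun q => hcov (j q))
      (fun a => pullElt j (f a)) (fun a => isFrame_pullElt j (hf a))
      (fun a => (show Γ(Coh.structureModule Y'', j ⁻¹ᵁ (i ⁻¹ᵁ U a)) from (1 : Γ(Y'', _))))
      (fun a => InvX.isFrame_one _) fun a b W ha hb g hg => ?_
    have hW : W ≤ j ⁻¹ᵁ (i ⁻¹ᵁ U b ⊓ i ⁻¹ᵁ U a) := le_inf hb ha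
    have h1 := congrArg (fun s => res ((Scheme.Modules.pullback j).obj M) hW (pullElt j s)) (hfr b a)
    simp only [pullElt_smul, ← res_pullElt, res_smul, res_res] at h1
    have h2 := (isFrame_pullElt j (hf a)).coord_unique ha (hg.symm.trans h1)
    subst h2
    have h3 : resR hW (j.app _ (1 + gu b a)) = 1 := by
      simp only [gu, map_add, map_one, map_mul, map_pow, map_natCast, hY'', zero_mul, add_zero]
    rw [h3, one_smul]
    exact (map_one (resR hb)).trans (map_one (resR ha)).symm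
  · have hlocD : ∀ a, ∃ (T : Y.Opens) (h : T ≤ U a) (_ : a ∈ T) (d : Γ(D, T)), IsFrame d ∧
        ψ.hom.app (i ⁻¹ᵁ T) (pullElt i d) = res M (i.preimage_mono h) (f a) := fun a => by
      obtain ⟨V, hyV, d₀, hd₀⟩ := exists_frame hD a
      obtain ⟨_, ⟨T, hT, rfl⟩, hyT, hTV⟩ :=
        Y.isBasis_affineOpens.exists_subset_of_mem_open (show a ∈ V ⊓ U a from ⟨hyV, hyU a⟩) (V ⊓ U a).2
      obtain ⟨d, hd, h⟩ := exists_frame_lift i ψ hT (hd₀.res fun q hq => (hTV hq).1)
        ((hf a).res (i.preimage_mono fun q hq => (hTV hq).2))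
      exact ⟨T, fun q hq => (hTV hq).2, hyT, d, hd, h⟩
    choose T hTU hyT d hd hψd using hlocD
    have hG : ∀ a b W (ha : W ≤ T a) (hb : W ≤ T b) (g : Γ(Y, W)),
        res D ha (d a) = g • res D hb (d b) →
          g ^ p = 1 + (p : Γ(Y, W)) ^ (n + 1) * X' a b W (ha.trans (hTU a)) (hb.trans (hTU b)) := by
      intro a b W ha hb g hg
      have hW := le_inf (ha.trans (hTU a)) (hb.trans (hTU b))
      have h1 := congrArg (fun s => ψ.hom.app _ (pullElt i s)) hg
      simp only [← res_pullElt, pullElt_smul, Scheme.Modules.Hom.app_smul, AModX.app_res, hψd, res_res] at h1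
      have h2 := congrArg (res M (show i ⁻¹ᵁ W ≤ i ⁻¹ᵁ U a ⊓ i ⁻¹ᵁ U b from i.preimage_mono hW)) (hfr a b)
      simp only [res_smul, res_res] at h2
      have h3 : i.app W g = i.app W (1 + (p : Γ(Y, W)) ^ n * X' a b W (ha.trans (hTU a)) (hb.trans (hTU b))) := by
        refine ((hf b).coord_unique (i.preimage_mono (hb.trans (hTU b))) (h1.symm.trans h2)).trans ?_
        have e0 := app_resR' i hW ((p : Γ(Y, U a ⊓ U b)) ^ n * x a b)
        rw [map_mul, map_pow, map_natCast] at e0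
        rw [map_add, map_one, map_add, map_one]
        exact congrArg (1 + ·) e0.symm
      refine eq_of_locally (M := Coh.structureModule Y) _ _ fun q hq => ?_
      obtain ⟨_, ⟨V, hV, rfl⟩, hqV, hVW⟩ := Y.isBasis_affineOpens.exists_subset_of_mem_open (show q ∈ W from hq) W.2
      refine ⟨V, hVW, hqV, ?_⟩
      show resR hVW (g ^ p) = resR hVW _
      have h4 : resR hVW g - resR hVW (1 + (p : Γ(Y, W)) ^ n * X' a b W (ha.trans (hTU a)) (hb.trans (hTU b))) ∈
          i.ker.ideal ⟨V, hV⟩ := by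
        rw [Scheme.Hom.ker_apply, RingHom.mem_ker, map_sub]
        exact sub_eq_zero.2 ((app_resR' i hVW g).trans ((congrArg (resR _) h3).trans (app_resR' i hVW _).symm))
      rw [hker ⟨V, hV⟩, Ideal.mem_span_singleton'] at h4
      obtain ⟨y, hy⟩ := h4
      let ξ : Γ(Y, V) := resR hVW (X' a b W (ha.trans (hTU a)) (hb.trans (hTU b)))
      have hg' : resR hVW g = 1 + (p : Γ(Y, V)) ^ n * (ξ + (p : Γ(Y, V)) * y) := by
        simp only [map_add, map_one, map_mul, map_pow, map_natCast] at hy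
        rw [pow_succ] at hy
        linear_combination -hy
      rw [map_pow, hg', one_add_mul_pow hp hp2 hn (hY V)]
      simp only [map_add, map_one, map_mul, map_pow, map_natCast]
      linear_combination (y : Γ(Y, V)) * hY V
    refine TorsPic.nonempty_iso_of_frames T (fun q => ⟨q, hyT q⟩) (fun a => res L (hTU a) (e a))
      (fun a => (he a).res (hTU a)) (fun a => powElt (d a) p) (fun a => isFrame_powElt (hd a) p) fun a b W ha hb g hg => ?_
    obtain ⟨q, hq⟩ := (hd a).exists_coord ha (res D hb (d b))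
    rw [res_powElt, res_powElt, hq, powElt_smul, hG b a W hb ha q hq]
    rw [res_res, res_res] at hg
    rw [(he a).coord_unique (ha.trans (hTU a)) (hg.symm.trans (hz' b a W (hb.trans (hTU b)) (ha.trans (hTU a))))]

end Main

end Groth.Agent.PicWitt
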