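import Groth.Agent.LineLift.System
import Groth.Agent.Algz7.AlgInvertible
import Groth.Agent.Snapper.DimVanish
import Groth.Agent.S2768
import Groth.Agent.AlgSpDec.FibreDimSp

/-!
# The levels of a proper scheme over a complete local ring
-/

set_option autoImplicit false
set_option linter.style.haveILetI false
set_option maxHeartbeats 1000000
set_option backward.isDefEq.respectTransparency false
set_option backward.isDefEq.respectTransparency.types false

universe u

open CategoryTheory CategoryTheory.Limits AlgebraicGeometry TopologicalSpace Opposite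

namespace Groth.Agent.PicWitt

open Groth.Agent

variable {A : Type u} [CommRing A] [IsLocalRing A] {X : Scheme.{u}} (f : X ⟶ Spec (CommRingCat.of A))

local notation "m" => IsLocalRing.maximalIdeal A

instance isClosedImmersion_thickι (n : ℕ) : IsClosedImmersion (CohB1.thickι f m n) :=
  MorphismProperty.pullback_fst (P := @IsClosedImmersion) f (CohB1.specQuot m n)
    (IsClosedImmersion.spec_of_surjective _ Ideal.Quotient.mk_surjective)

/-- The transition maps between the levels. -/
noncomputable def tau {a b : ℕ} (h : a ≤ b) : CohB1.thick f m a ⟶ CohB1.thick f m b :=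
  pullback.map f (CohB1.specQuot m a) f (CohB1.specQuot m b) (𝟙 X)
    (Spec.map (CommRingCat.ofHom (Ideal.Quotient.factor (Ideal.pow_le_pow_right (I := m) (Nat.succ_le_succ h)))))
    (𝟙 _) (by simp)
    (by
      rw [Category.comp_id]
      simp only [CohB1.specQuot, ← Spec.map_comp, ← CommRingCat.ofHom_comp]
      congr 2)

theorem tau_ι {a b : ℕ} (h : a ≤ b) : tau f h ≫ CohB1.thickι f m b = CohB1.thickι f m a :=
  (pullback.lift_fst _ _ _).trans (Category.comp_id _)

theorem trans_ι (n : ℕ) : CohB1.thickTrans f m n ≫ CohB1.thickι f m (n + 1) = CohB1.thickι f m n :=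
  (pullback.lift_fst _ _ _).trans (Category.comp_id _)

theorem big (n : ℕ) : IsPullback (CohB1.thickι f m n) (CohB1.thickToBase f m n) f (CohB1.specQuot m n) :=
  IsPullback.of_hasPullback _ _

theorem cart (n : ℕ) : IsPullback (CohB1.thickTrans f m n) (CohB1.thickToBase f m n) (CohB1.thickToBase f m (n + 1))
    (CohB1.specQuotTrans m n) := by
  refine IsPullback.of_right ?_ (pullback.lift_snd _ _ _) (big f (n + 1))
  change IsPullback (CohB1.thickTrans f m n ≫ CohB1.thickι f m (n + 1)) _ _ _
  rw [trans_ι, CohB1.specQuotTrans_specQuot]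
  exact big f n

instance flat_thickToBase [Flat f] (n : ℕ) : Flat (CohB1.thickToBase f m n) :=
  MorphismProperty.of_isPullback (big f n) ‹Flat f›

instance isSeparated_thick [IsProper f] (n : ℕ) : (CohB1.thick f m n).IsSeparated := by
  haveI : IsSeparated (CohB1.thickι f m n ≫ f ≫ terminal.from _) := inferInstance
  exact ⟨by rwa [terminal.comp_from, terminal.comp_from] at this⟩

/-- The system of levels. -/
noncomputable def sys : AmpleVan.AdicSys A m :=
  ⟨CohB1.thick f m, CohB1.thickToBase f m, CohB1.thickTrans f m, cart f⟩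

variable [IsNoetherianRing A]

/-- No second cohomology on the special fibre of a smooth relative curve. -/
theorem subsingleton_HH_two [IsProper f] [SmoothOfRelativeDimension 1 f] :
    Subsingleton (Coh.HH (CohB1.thick f m 0) (Coh.structureModule _) 2) := by
  haveI : (m ^ (0 + 1)).IsMaximal := by rw [zero_add, pow_one]; infer_instance
  letI := Ideal.Quotient.field (m ^ (0 + 1))
  haveI := AlgebraicGeometry.smoothOfRelativeDimension_isStableUnderBaseChange (n := 1)
  haveI : SmoothOfRelativeDimension 1 (CohB1.thickToBase f m 0) :=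
    MorphismProperty.pullback_snd (P := @SmoothOfRelativeDimension 1) f (CohB1.specQuot m 0) ‹_›
  haveI : Smooth (CohB1.thickToBase f m 0) := SmoothOfRelativeDimension.smooth (n := 1) _
  haveI : Subsingleton ↥(Spec (CommRingCat.of (A ⧸ m ^ (0 + 1)))) :=
    inferInstanceAs (Subsingleton (PrimeSpectrum (A ⧸ m ^ (0 + 1))))
  haveI : IsProper (CohB1.thickToBase f m 0) := MorphismProperty.of_isPullback (big f 0) ‹IsProper f›
  haveI : IsLocallyNoetherian (CohB1.thick f m 0) :=
    LocallyOfFiniteType.isLocallyNoetherian (CohB1.thickToBase f m 0)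
  haveI : CompactSpace (CohB1.thick f m 0) :=
    QuasiCompact.compactSpace_of_compactSpace (CohB1.thickToBase f m 0)
  haveI : AlgebraicGeometry.IsNoetherian (CohB1.thick f m 0) :=
    { __ := ‹IsLocallyNoetherian (CohB1.thick f m 0)›, __ := ‹CompactSpace (CohB1.thick f m 0)› }
  have hd : topologicalKrullDim ↥(CohB1.thick f m 0) ≤ ((1 : ℕ) : WithBot ℕ∞) :=
    (AlgSpDec.FibreDimSp.krullDim_le_iff_fibreDimAt (CohB1.thickToBase f m 0) 1).2 fun x => (S2768.result 1 _ x).le
  exact Snapper.subsingleton_HH_of_dim_le hd (PnCoh.isQCoh_structureModule _) one_lt_two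

variable [IsAdicComplete (IsLocalRing.maximalIdeal A) A]

/-- Invertible modules on a level extend to the whole scheme. -/
theorem exists_extend_from_level [IsProper f] [Flat f]
    (h2 : Subsingleton (Coh.HH (CohB1.thick f m 0) (Coh.structureModule _) 2)) (n : ℕ)
    (Ln : (CohB1.thick f m n).Modules) (hLn : PicF.IsInvertible Ln) :
    ∃ M : X.Modules, PicF.IsInvertible M ∧ Nonempty ((Scheme.Modules.pullback (CohB1.thickι f m n)).obj M ≅ Ln) := by
  have step : ∀ j (L : {L : (CohB1.thick f m (n + j)).Modules // PicF.IsInvertible L}),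
      ∃ L' : (CohB1.thick f m (n + j + 1)).Modules, PicF.IsInvertible L' ∧
        Nonempty ((Scheme.Modules.pullback (CohB1.thickTrans f m (n + j))).obj L' ≅ L.1) := fun j L => by
    obtain ⟨q, hq⟩ := LineLift.exists_sq₀ A (cart f) (n + j + 1)
    haveI := LineLift.isMaximal_ker A (Nat.succ_le_succ (Nat.zero_le (n + j + 1)))
    exact LineLift.exists_lift_step _ _ (CohB1.thickToBase f m (n + j + 1))
      (LineLift.fac_surjective A (Nat.le_succ (n + j + 1)))
      (LineLift.fac_surjective A (Nat.succ_le_succ (Nat.zero_le (n + j + 1))))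
      (by rw [LineLift.ker_fac, LineLift.ker_fac]; exact Ideal.map_mono (Ideal.pow_le_pow_right (by omega)))
      (LineLift.ker_mul_ker A _ _) (cart f (n + j)) hq h2 L.1 L.2
  choose L' hL' he using step
  let T : ∀ j, {L : (CohB1.thick f m (n + j)).Modules // PicF.IsInvertible L} :=
    fun j => Nat.rec (motive := fun j => {L : (CohB1.thick f m (n + j)).Modules // PicF.IsInvertible L}) ⟨Ln, hLn⟩
      (fun j L => ⟨L' j L, hL' j L⟩) j
  let L : ∀ k, (CohB1.thick f m k).Modules := fun k =>
    (Scheme.Modules.pullback (tau f (Nat.le_add_left k n))).obj (T k).1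
  have hLt : ∀ k, Nonempty ((Scheme.Modules.pullback (CohB1.thickTrans f m k)).obj (L (k + 1)) ≅ L k) := fun k => by
    obtain ⟨e⟩ := he k (T k)
    refine ⟨(Scheme.Modules.pullbackComp _ _).app _ ≪≫ (Scheme.Modules.pullbackCongr ?_).app _ ≪≫
      ((Scheme.Modules.pullbackComp (tau f (Nat.le_add_left k n)) (CohB1.thickTrans f m (n + k))).app _).symm ≪≫
      (Scheme.Modules.pullback _).mapIso e⟩
    show CohB1.thickTrans f m k ≫ tau f _ = tau f _ ≫ CohB1.thickTrans f m (n + k)
    rw [← cancel_mono (CohB1.thickι f m (n + k + 1)), Category.assoc, Category.assoc, trans_ι, tau_ι]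
    rw [trans_ι, tau_ι]
  letI : X.Over (Spec (CommRingCat.of A)) := ⟨f⟩
  haveI : IsProper (X ↘ Spec (CommRingCat.of A)) := ‹IsProper f›
  obtain ⟨M, hM, hpull⟩ := Algz7.exists_algebraization_invertible m (sys f) (CohB1.thickι f m) (big f)
    (fun k => (trans_ι f k).symm) L (fun k => PicClLib.isInvertible_pullback _ (T k).2) (fun k => (hLt k).some)
  refine ⟨M, hM, ?_⟩
  have hdown : ∀ j, Nonempty ((Scheme.Modules.pullback (tau f (Nat.le_add_right n j))).obj (T j).1 ≅ Ln) := by
    intro j
    induction j with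
    | zero =>
      refine ⟨(Scheme.Modules.pullbackCongr ?_).app _ ≪≫ (Scheme.Modules.pullbackId _).app _⟩
      rw [← cancel_mono (CohB1.thickι f m (n + 0))]
      exact (tau_ι f _).trans (Category.id_comp _).symm
    | succ j ih =>
      obtain ⟨e⟩ := ih
      obtain ⟨e'⟩ := he j (T j)
      refine ⟨(Scheme.Modules.pullbackCongr ?_).app _ ≪≫
        ((Scheme.Modules.pullbackComp (tau f (Nat.le_add_right n j)) (CohB1.thickTrans f m (n + j))).app _).symm ≪≫
        (Scheme.Modules.pullback _).mapIso e' ≪≫ e⟩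
      show tau f _ = tau f _ ≫ CohB1.thickTrans f m (n + j)
      rw [← cancel_mono (CohB1.thickι f m (n + j + 1)), Category.assoc, trans_ι, tau_ι]
      exact (tau_ι f _).symm
  obtain ⟨e⟩ := hdown n
  obtain ⟨e'⟩ := hpull n
  refine ⟨e' ≪≫ ?_⟩
  exact e

/-- Iterating a step which is contracting in a filtration. -/
theorem exists_root {P : Type*} [CommGroup P] (K : ℕ → Subgroup P) {p : ℕ}
    (hmono : ∀ n, K (n + 1) ≤ K n) (hsep : ∀ x, (∀ n, x ∈ K n) → x = 1)
    (hlim : ∀ C : ℕ → P, (∀ n, C (n + 1) / C n ∈ K n) → ∃ c, ∀ n, c / C n ∈ K n)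
    (hstep : ∀ n, 1 ≤ n → ∀ a ∈ K n, ∃ d ∈ K (n - 1), a / d ^ p ∈ K (n + 1)) :
    ∀ i t a, a ∈ K (t + i) → ∃ c ∈ K t, a = c ^ (p ^ i) := by
  have hanti : Antitone K := antitone_nat_of_succ_le hmono
  have one : ∀ t a, a ∈ K (t + 1) → ∃ c ∈ K t, a = c ^ p := fun t a ha => by
    have hs : ∀ j (q : {x : P // x ∈ K (t + 1 + j)}), ∃ d, d ∈ K (t + j) ∧ q.1 / d ^ p ∈ K (t + 1 + (j + 1)) := fun j q => by
      obtain ⟨d, hd, h⟩ := hstep (t + 1 + j) (by omega) q.1 q.2
      exact ⟨d, by rwa [show t + 1 + j - 1 = t + j by omega] at hd, by rwa [← Nat.add_assoc]⟩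
    choose d hd hrest using hs
    let q : ∀ j, {x : P // x ∈ K (t + 1 + j)} := fun j =>
      Nat.rec (motive := fun j => {x : P // x ∈ K (t + 1 + j)}) ⟨a, ha⟩ (fun j q => ⟨_, hrest j q⟩) j
    let C : ℕ → P := fun j => ∏ l ∈ Finset.range j, d l (q l)
    have hC : ∀ j, a / (C j) ^ p = (q j).1 := fun j => by
      induction j with
      | zero => show a / (∏ l ∈ Finset.range 0, d l (q l)) ^ p = a; simp
      | succ j ih =>
        show a / (∏ l ∈ Finset.range (j + 1), d l (q l)) ^ p = (q j).1 / d j (q j) ^ p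
        rw [← ih, Finset.prod_range_succ, mul_pow, div_div]
    obtain ⟨c, hc⟩ := hlim C fun j => by
      have : C (j + 1) / C j = d j (q j) := by
        simp only [C, Finset.prod_range_succ, mul_div_cancel_left]
      rw [this]
      exact hanti (Nat.le_add_left j t) (hd j (q j))
    refine ⟨c, ?_, ?_⟩
    · have h1 : C t ∈ K t := Subgroup.prod_mem _ fun l _ => hanti (Nat.le_add_right t l) (hd l (q l))
      have := Subgroup.mul_mem _ (hc t) h1
      rwa [div_mul_cancel] at this
    · refine div_eq_one.1 (hsep _ fun j => ?_)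
      rw [show a / c ^ p = (a / (C j) ^ p) / ((c / C j) ^ p) by rw [div_pow, div_div_div_cancel_right]]
      refine Subgroup.div_mem _ ?_ (Subgroup.pow_mem _ (hc j) p)
      rw [hC j]
      exact hanti (by omega) (q j).2
  intro i
  induction i with
  | zero => exact fun t a ha => ⟨a, ha, by rw [pow_zero, pow_one]⟩
  | succ i ih =>
    intro t a ha
    obtain ⟨b, hb, rfl⟩ := one (t + i) a (by rwa [← Nat.add_assoc] at ha)
    obtain ⟨c, hc, rfl⟩ := ih t b hb
    exact ⟨c, hc, by rw [← pow_mul, ← pow_succ]⟩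

end Groth.Agent.PicWitt
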