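import Groth.Agent.AmpleVan.ThickPush
import Groth.Agent.AmpleVan.LiftFibre
import Groth.Agent.AmpleVan.NakayamaFibre
import Groth.Agent.Algz7.Completion
import Groth.Agent.TrivThick.Basic
import Groth.Agent.FFun.Basic
import Groth.Agent.InvX.Tensor
import Groth.Agent.S0002
import Groth.Agent.S0003
import Mathlib.RingTheory.Ideal.Quotient.Index

/-!
# Invertible modules trivial on all thickenings, over a base with finite residue field
-/

set_option autoImplicit false
set_option linter.style.haveILetI false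
set_option maxHeartbeats 1000000
set_option backward.isDefEq.respectTransparency false
set_option backward.isDefEq.respectTransparency.types false

universe u

open CategoryTheory CategoryTheory.Limits AlgebraicGeometry TopologicalSpace Opposite

namespace Groth.Agent.PicWitt

open Groth.Agent

/-- A finite module over a finite quotient is finite as a set. -/
theorem finite_of_killed {A M : Type u} [CommRing A] [AddCommGroup M] [Module A M] [Module.Finite A M]
    (J : Ideal A) [Finite (A ⧸ J)] (h : ∀ a ∈ J, ∀ x : M, a • x = 0) : Finite M := by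
  obtain ⟨k, s, hs⟩ := Module.Finite.exists_fin (R := A) (M := M)
  refine Finite.of_surjective (fun c : Fin k → A ⧸ J => ∑ i, Quotient.out (c i) • s i) fun x => ?_
  have hx : x ∈ Submodule.span A (Set.range s) := hs.ge trivial
  obtain ⟨c, rfl⟩ := (Submodule.mem_span_range_iff_exists_fun A).1 hx
  refine ⟨fun i => Ideal.Quotient.mk J (c i), Finset.sum_congr rfl fun i _ => ?_⟩
  have h1 : Quotient.out (Ideal.Quotient.mk J (c i)) - c i ∈ J :=
    Ideal.Quotient.eq.1 (Quotient.out_eq (Ideal.Quotient.mk J (c i)))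
  refine sub_eq_zero.1 ?_
  rw [← sub_smul]
  exact h _ h1 _

variable {A : Type u} [CommRing A] [IsLocalRing A] [IsNoetherianRing A]
  [IsAdicComplete (IsLocalRing.maximalIdeal A) A] [Finite (A ⧸ IsLocalRing.maximalIdeal A)]
  {X : Scheme.{u}} [X.Over (Spec (CommRingCat.of A))] [IsProper (X ↘ Spec (CommRingCat.of A))]

theorem nonempty_iso_of_levels (L : X.Modules) (hL : PicF.IsInvertible L)
    (h : ∀ n, Nonempty ((Scheme.Modules.pullback
        (CohB1.thickι (X ↘ Spec (CommRingCat.of A)) (IsLocalRing.maximalIdeal A) n)).obj L ≅ Coh.structureModule _)) :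
    Nonempty (L ≅ Coh.structureModule X) := by
  let m := IsLocalRing.maximalIdeal A
  let g := X ↘ Spec (CommRingCat.of A)
  haveI : IsLocallyNoetherian X := LocallyOfFiniteType.isLocallyNoetherian g
  have hLc : Coh.IsCoh L := CurveDeg.isCoh_of_isInvertible hL
  have hOc : Coh.IsCoh (Coh.structureModule X) := CurveDeg.isCoh_of_isInvertible InvX.isInvertible_structureModule
  haveI : ∀ n, IsClosedImmersion (CohB1.thickι g m n) := fun n =>
    MorphismProperty.pullback_fst (P := @IsClosedImmersion) g (CohB1.specQuot m n)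
      (IsClosedImmersion.spec_of_surjective _ Ideal.Quotient.mk_surjective)
  let Sn : ℕ → Type u := fun n => {z : Coh.structureModule X ⟶ Formal.modPow m (n + 1) L // Epi z}
  have hfinS : ∀ n, Finite (Sn n) := fun n => by
    haveI := (Algz7.isQuot_modPowπ m (n + 1) L).epi
    have hcoh : Coh.IsCoh (Formal.modPow m (n + 1) L) :=
      Algz7.isCoh_of_epi (Formal.modPowπ m (n + 1) L) hLc (Algz7.isQCoh_modPow m _ hLc.1)
    haveI := S0002.result A X _ hcoh 0
    haveI : Finite (A ⧸ m ^ (n + 1)) := Ideal.finite_quotient_pow (IsNoetherian.noetherian m) _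
    haveI : Finite (Coh.HH X (Formal.modPow m (n + 1) L) 0) := finite_of_killed (m ^ (n + 1)) fun a ha x =>
      FFun.smul_HH_eq_zero (FFun.mem_killIdeal.2 (Algz7.killedBy_of_isQuot (Algz7.isQuot_modPowπ m (n + 1) L) a ha)) 0 x
    exact Finite.of_injective (fun z : Sn n => SheafHomX.cls z.1) fun a b hab => Subtype.ext (SheafHomX.cls_injective hab)
  have hneS : ∀ n, Nonempty (Sn n) := fun n => by
    have sq : IsPullback (CohB1.thickι g m n) (CohB1.thickToBase g m n) g (CohB1.specQuot m n) :=
      IsPullback.of_hasPullback _ _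
    obtain ⟨hz, hi⟩ := AmpleVan.unit_desc_iso sq hLc.1
    obtain ⟨hzO, hiO⟩ := AmpleVan.unit_desc_iso sq hOc.1
    obtain ⟨φ⟩ := h n
    obtain ⟨e₁⟩ := PicClLib.nonempty_pullback_structureModule (CohB1.thickι g m n)
    haveI := hi
    haveI := hiO
    haveI : Epi ((Scheme.Modules.pullbackPushforwardAdjunction (CohB1.thickι g m n)).unit.app (Coh.structureModule X)) := by
      rw [← cokernel.π_desc _ _ hzO]; infer_instance
    let u := (Scheme.Modules.pullbackPushforwardAdjunction (CohB1.thickι g m n)).unit.app (Coh.structureModule X)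
    haveI : Epi (u ≫ ((Scheme.Modules.pushforward (CohB1.thickι g m n)).mapIso (e₁ ≪≫ φ.symm) ≪≫
        (asIso (cokernel.desc _ _ hz)).symm).hom) := @epi_comp _ _ _ _ _ _ ‹_› _ inferInstance
    exact ⟨⟨u ≫ ((Scheme.Modules.pushforward (CohB1.thickι g m n)).mapIso (e₁ ≪≫ φ.symm) ≪≫
        (asIso (cokernel.desc _ _ hz)).symm).hom, ‹_›⟩⟩
  have hepi : ∀ n, Epi (Formal.modPowTrans m (n + 1) L) := fun n => by
    haveI := (Algz7.isQuot_modPowπ m (n + 1) L).epi
    haveI : Epi (Formal.modPowπ m (n + 1 + 1) L ≫ Formal.modPowTrans m (n + 1) L) := by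
      rw [Formal.modPowπ_trans]; infer_instance
    exact epi_of_epi (Formal.modPowπ m (n + 1 + 1) L) _
  let F : ℕᵒᵖ ⥤ Type u := Functor.ofOpSequence (X := Sn) fun n =>
    ↾ fun z : Sn (n + 1) => (⟨z.1 ≫ Formal.modPowTrans m (n + 1) L,
      haveI := hepi n; haveI := z.2; epi_comp _ _⟩ : Sn n)
  haveI : ∀ j : ℕᵒᵖ, Finite (F.obj j) := fun j => hfinS j.unop
  haveI : ∀ j : ℕᵒᵖ, Nonempty (F.obj j) := fun j => hneS j.unop
  obtain ⟨s, hs⟩ := nonempty_sections_of_finite_inverse_system F
  have hs' : ∀ n, (s (op (n + 1))).1 ≫ Formal.modPowTrans m (n + 1) L = (s (op n)).1 := fun n => by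
    have h1 := hs (homOfLE (Nat.le_succ n)).op
    rw [show F.map (homOfLE (Nat.le_succ n)).op = _ from Functor.ofOpSequence_map_homOfLE_succ _ n] at h1
    exact congrArg Subtype.val h1
  let τ : Formal.HHlim m L 0 := ⟨fun n => SheafHomX.cls (s (op n)).1, fun n =>
    (SheafHomX.map_cls (s (op (n + 1))).1 (Formal.modPowTrans m (n + 1) L)).trans (congrArg SheafHomX.cls (hs' n))⟩
  obtain ⟨c, hc⟩ := (S0003.result A m X L hLc 0).2 τ
  obtain ⟨v, rfl⟩ := SheafHomX.cls_surjective c
  have hv : v ≫ Formal.modPowπ m (0 + 1) L = (s (op 0)).1 :=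
    SheafHomX.cls_injective ((SheafHomX.map_cls v _).symm.trans (congrArg (fun t : Formal.HHlim m L 0 => t.1 0) hc))
  let b := Spec.map (CommRingCat.ofHom (Ideal.Quotient.mk m))
  haveI : IsClosedImmersion b := IsClosedImmersion.spec_of_surjective _ Ideal.Quotient.mk_surjective
  let i := pullback.fst g b
  haveI : IsClosedImmersion i := MorphismProperty.pullback_fst (P := @IsClosedImmersion) _ _ inferInstance
  have sq₀ : IsPullback i (pullback.snd g b) g b := IsPullback.of_hasPullback _ _
  haveI : Epi ((Scheme.Modules.pullback i).map v) := by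
    obtain ⟨hz, hi⟩ := AmpleVan.unit_desc_iso sq₀ hLc.1
    haveI := hi
    haveI : (Scheme.Modules.pullback i).IsLeftAdjoint := (Scheme.Modules.pullbackPushforwardAdjunction i).isLeftAdjoint
    haveI := (s (op 0)).2
    have hle : m ^ (0 + 1) = m := by rw [zero_add, pow_one]
    have hkill : ∀ a ∈ m ^ (0 + 1), Formal.smulMod A L a ≫ (Scheme.Modules.pullbackPushforwardAdjunction i).unit.app L = 0 := fun a ha =>
      Algz7.smulMod_comp_eq_zero hz (hle ▸ ha)
    obtain ⟨r, hr⟩ : ∃ r, Formal.modPowπ m (0 + 1) L ≫ r =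
        (Scheme.Modules.pullbackPushforwardAdjunction i).unit.app L := by
      refine ⟨cokernel.desc _ _ ?_, cokernel.π_desc _ _ _⟩
      refine Sigma.hom_ext _ _ fun a => ?_
      rw [comp_zero, ← Category.assoc]
      exact (congrArg (· ≫ _) (Sigma.ι_desc _ _)).trans (hkill _ a.2)
    haveI : Epi ((Scheme.Modules.pullbackPushforwardAdjunction i).unit.app L) := by
      rw [← cokernel.π_desc _ _ hz]; infer_instance
    haveI : Epi r := by
      haveI : Epi (Formal.modPowπ m (0 + 1) L ≫ r) := by rw [hr]; infer_instance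
      exact epi_of_epi (Formal.modPowπ m (0 + 1) L) r
    haveI : Epi (v ≫ (Scheme.Modules.pullbackPushforwardAdjunction i).unit.app L) := by
      rw [← hr, ← Category.assoc, hv]; infer_instance
    have h4 := ((Scheme.Modules.pullbackPushforwardAdjunction i).left_triangle_components L)
    haveI : IsIso ((Scheme.Modules.pullbackPushforwardAdjunction i).counit.app ((Scheme.Modules.pullback i).obj L)) :=
      AmpleVan.isIso_counit i (QCoh.isQCoh_pullback i hLc.1)
    haveI : IsIso ((Scheme.Modules.pullback i).map ((Scheme.Modules.pullbackPushforwardAdjunction i).unit.app L)) :=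
      IsIso.of_isIso_fac_right h4
    have h5 : Epi ((Scheme.Modules.pullback i).map (v ≫ (Scheme.Modules.pullbackPushforwardAdjunction i).unit.app L)) :=
      inferInstance
    rw [Functor.map_comp] at h5
    exact (epi_comp_iff_of_isIso _ _).1 h5
  haveI := AmpleVan.epi_of_fibre sq₀ hOc.1 hLc v
  haveI := TrivThick.isIso_of_epi hL v
  exact ⟨(asIso v).symm⟩

end Groth.Agent.PicWitt
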