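import Groth.Agent.PicWitt.Step
import Groth.Agent.PicWitt.Trivial
import Groth.Agent.H23.PicMul
import Groth.Prelude.Def_PicGrp

/-!
# Restriction maps of Picard groups to the levels
-/

set_option autoImplicit false
set_option linter.style.haveILetI false
set_option maxHeartbeats 1000000
set_option backward.isDefEq.respectTransparency false
set_option backward.isDefEq.respectTransparency.types false

universe u

open CategoryTheory CategoryTheory.Limits AlgebraicGeometry TopologicalSpace Opposite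

namespace Groth.Agent.PicWitt

open Groth.Agent

theorem main_statement {A : Type u} [CommRing A] [IsLocalRing A] [IsNoetherianRing A] [IsDomain A]
    (I : Ideal A) [IsAdicComplete I A] (hI : I = IsLocalRing.maximalIdeal A) [Finite (A ⧸ I)]
    {p : ℕ} (hIp : I = Ideal.span {(p : A)}) (hp0 : (p : A) ≠ 0) (hp : p.Prime) (hp2 : 2 < p)
    {X : Scheme.{u}} (f : X ⟶ Spec (CommRingCat.of A)) [IsProper f] [SmoothOfRelativeDimension 1 f]
    [PicGrp.Law X] [∀ n : ℕ, PicGrp.Law (CohB1.thick f I n)]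
    (hι : ∀ n : ℕ, PicGrp.PullMul (CohB1.thickι f I n)) (i : ℕ) :
    (∀ n : ℕ, Function.Surjective (PicGrp.pullHom (CohB1.thickι f I n) (hι n))) ∧
    ∃ t : ℕ, ∀ a : PicLoc.PicSet X,
      (∃ b : PicLoc.PicSet (CohB1.thick f I t), b ^ (p ^ i) = PicGrp.pullHom (CohB1.thickι f I t) (hι t) a) →
      ∃ a' : PicLoc.PicSet X, a' ^ (p ^ i) = a := by
  subst hI
  haveI : Smooth f := SmoothOfRelativeDimension.smooth (n := 1) f
  haveI : Flat f := inferInstance
  have h2 := subsingleton_HH_two f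
  have hsurj : ∀ n, Function.Surjective (PicGrp.pullHom (CohB1.thickι f _ n) (hι n)) := fun n c => by
    obtain ⟨Ln, hLn, rfl⟩ := PicGrp.exists_eq_cls c
    obtain ⟨M, hM, hMe⟩ := exists_extend_from_level f h2 n Ln hLn
    exact ⟨PicGrp.cls M hM, by rw [PicGrp.pullHom_cls, PicGrp.cls_eq_cls_iff]; exact hMe⟩
  let r := fun n => PicGrp.pullHom (CohB1.thickι f (IsLocalRing.maximalIdeal A) n) (hι n)
  let K : ℕ → Subgroup (PicLoc.PicSet X) := fun n => (r n).ker
  have hK : ∀ n (L : X.Modules) (hL : PicF.IsInvertible L), PicGrp.cls L hL ∈ K n ↔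
      Nonempty ((Scheme.Modules.pullback (CohB1.thickι f (IsLocalRing.maximalIdeal A) n)).obj L ≅ Coh.structureModule _) := fun n L hL => by
    show r n (PicGrp.cls L hL) = 1 ↔ _
    rw [PicGrp.pullHom_cls, PicGrp.cls_eq_one_iff]
  have hmono : ∀ n, K (n + 1) ≤ K n := fun n c hc => by
    obtain ⟨L, hL, rfl⟩ := PicGrp.exists_eq_cls c
    obtain ⟨e⟩ := (hK _ L hL).1 hc
    obtain ⟨e'⟩ := PicClLib.nonempty_pullback_structureModule (CohB1.thickTrans f (IsLocalRing.maximalIdeal A) n)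
    exact (hK _ L hL).2 ⟨(Scheme.Modules.pullbackCongr (trans_ι f n).symm).app L ≪≫
      ((Scheme.Modules.pullbackComp _ _).app L).symm ≪≫ (Scheme.Modules.pullback _).mapIso e ≪≫ e'⟩
  have hsep : ∀ x, (∀ n, x ∈ K n) → x = 1 := fun x hx => by
    obtain ⟨L, hL, rfl⟩ := PicGrp.exists_eq_cls x
    letI : X.Over (Spec (CommRingCat.of A)) := ⟨f⟩
    haveI : IsProper (X ↘ Spec (CommRingCat.of A)) := ‹IsProper f›
    exact (PicGrp.cls_eq_one_iff hL).2 (nonempty_iso_of_levels L hL fun n => (hK n L hL).1 (hx n))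
  have hlim : ∀ C : ℕ → PicLoc.PicSet X, (∀ n, C (n + 1) / C n ∈ K n) → ∃ c, ∀ n, c / C n ∈ K n := fun C hC => by
    choose M hM hCM using fun n => PicGrp.exists_eq_cls (C n)
    let L : ∀ n, (CohB1.thick f (IsLocalRing.maximalIdeal A) n).Modules := fun n =>
      (Scheme.Modules.pullback (CohB1.thickι f _ n)).obj (M n)
    have hφ : ∀ n, Nonempty ((Scheme.Modules.pullback (CohB1.thickTrans f (IsLocalRing.maximalIdeal A) n)).obj (L (n + 1)) ≅ L n) := fun n => by
      have h1 : r n (C (n + 1)) = r n (C n) := by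
        have h := hC n
        rw [MonoidHom.mem_ker, map_div, div_eq_one] at h
        exact h
      rw [hCM, hCM, PicGrp.pullHom_cls, PicGrp.pullHom_cls, PicGrp.cls_eq_cls_iff] at h1
      obtain ⟨e⟩ := h1
      exact ⟨(Scheme.Modules.pullbackComp _ _).app _ ≪≫ (Scheme.Modules.pullbackCongr (trans_ι f n)).app _ ≪≫ e⟩
    letI : X.Over (Spec (CommRingCat.of A)) := ⟨f⟩
    haveI : IsProper (X ↘ Spec (CommRingCat.of A)) := ‹IsProper f›
    obtain ⟨c, hc, hpull⟩ := Algz7.exists_algebraization_invertible (IsLocalRing.maximalIdeal A) (sys f)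
      (CohB1.thickι f _) (big f) (fun k => (trans_ι f k).symm) L
      (fun k => PicClLib.isInvertible_pullback _ (hM k)) (fun k => (hφ k).some)
    refine ⟨PicGrp.cls c hc, fun n => ?_⟩
    rw [MonoidHom.mem_ker, map_div, div_eq_one, hCM, PicGrp.pullHom_cls, PicGrp.pullHom_cls, PicGrp.cls_eq_cls_iff]
    exact hpull n
  have hstep : ∀ n, 1 ≤ n → ∀ a ∈ K n, ∃ d ∈ K (n - 1), a / d ^ p ∈ K (n + 1) := fun n hn a ha => by
    obtain ⟨k, rfl⟩ : ∃ k, n = k + 1 := ⟨n - 1, by omega⟩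
    obtain ⟨L, hL, rfl⟩ := PicGrp.exists_eq_cls a
    obtain ⟨D, hD, hDk, ⟨e⟩⟩ := exists_step f hIp hp0 hp hp2 h2 k L hL ((hK _ L hL).1 ha)
    refine ⟨PicGrp.cls D hD, (hK _ D hD).2 hDk, ?_⟩
    rw [MonoidHom.mem_ker, map_div, map_pow, div_eq_one, PicGrp.pullHom_cls, PicGrp.pullHom_cls]
    refine Subtype.ext ?_
    rw [PicGrp.cls_pow_val, PicGrp.cls_val]
    exact (PicGrp.cl_eq_cl_iff _ _).2 ⟨e⟩
  refine ⟨hsurj, i, fun a ⟨b, hb⟩ => ?_⟩
  obtain ⟨B, rfl⟩ := hsurj i b
  have h1 : a / B ^ (p ^ i) ∈ K i := by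
    rw [MonoidHom.mem_ker, map_div, map_pow, div_eq_one]
    exact hb.symm
  obtain ⟨c, -, hc⟩ := exists_root K hmono hsep hlim hstep i 0 _ (by rwa [Nat.zero_add])
  exact ⟨c * B, by rw [mul_pow, ← hc, div_mul_cancel]⟩

end Groth.Agent.PicWitt
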