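import Groth.Agent.PicWitt.Kernel
import Groth.Agent.PicWitt.Levels
import Groth.Agent.Algz7.AlgEmbed

/-!
# One step of the filtration of the Picard group over an unramified base
-/

set_option autoImplicit false
set_option linter.style.haveILetI false
set_option maxHeartbeats 1000000
set_option backward.isDefEq.respectTransparency false
set_option backward.isDefEq.respectTransparency.types false

universe u

open CategoryTheory CategoryTheory.Limits AlgebraicGeometry TopologicalSpace Opposite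
open scoped TensorProduct

namespace Groth.Agent.PicWitt

open Groth.Agent

variable {A : Type u} [CommRing A] [IsLocalRing A] [IsNoetherianRing A] [IsDomain A]
  [IsAdicComplete (IsLocalRing.maximalIdeal A) A] {p : ℕ} {X : Scheme.{u}} (f : X ⟶ Spec (CommRingCat.of A))

local notation "m" => IsLocalRing.maximalIdeal A

/-- Division by powers of the uniformizer in a flat algebra. -/
theorem exists_eq_mul_of_flat (hpm : IsLocalRing.maximalIdeal A = Ideal.span {(p : A)}) (hp0 : (p : A) ≠ 0) (k : ℕ)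
    {B : Type u} [CommRing B] [Algebra (A ⧸ m ^ (k + 2)) B] [Module.Flat (A ⧸ m ^ (k + 2)) B] (a : B)
    (ha : (p : B) ^ (k + 1) * a = 0) : ∃ b, a = (p : B) * b := by
  let R := A ⧸ m ^ (k + 2)
  have hex : Function.Exact (LinearMap.mulLeft R (p : R)) (LinearMap.mulLeft R ((p : R) ^ (k + 1))) := fun r => by
    simp only [LinearMap.mulLeft_apply, Set.mem_range]
    constructor
    · intro h
      obtain ⟨r, rfl⟩ := Ideal.Quotient.mk_surjective r
      have h' : (p : A) ^ (k + 1) * r ∈ m ^ (k + 2) := by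
        rw [← Ideal.Quotient.eq_zero_iff_mem, map_mul, map_pow, map_natCast]; exact h
      rw [hpm, Ideal.span_singleton_pow, Ideal.mem_span_singleton'] at h'
      obtain ⟨c, hc⟩ := h'
      refine ⟨Ideal.Quotient.mk _ c, ?_⟩
      have : r = (p : A) * c := mul_left_cancel₀ (pow_ne_zero (k + 1) hp0) (by
        rw [← hc, pow_succ _ (k + 1)]; ring)
      rw [this, map_mul, map_natCast]
    · rintro ⟨c, rfl⟩
      have h0 : (p : R) ^ (k + 2) = 0 := by
        rw [← map_natCast (Ideal.Quotient.mk (m ^ (k + 2))), ← map_pow, Ideal.Quotient.eq_zero_iff_mem]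
        exact Ideal.pow_mem_pow (hpm.ge (Ideal.mem_span_singleton_self _)) _
      rw [← mul_assoc, ← pow_succ, h0, zero_mul]
  have hB := Module.Flat.lTensor_exact B hex
  have key : ∀ (c : R) (z : B), TensorProduct.rid R B ((LinearMap.mulLeft R c).lTensor B ((TensorProduct.rid R B).symm z)) =
      c • z := fun c z => by simp
  have h1 : (LinearMap.mulLeft R ((p : R) ^ (k + 1))).lTensor B ((TensorProduct.rid R B).symm a) = 0 := by
    apply (TensorProduct.rid R B).injective
    rw [key, map_zero, Algebra.smul_def, map_pow, map_natCast, ha]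
  obtain ⟨w, hw⟩ := (hB _).1 h1
  refine ⟨TensorProduct.rid R B w, ?_⟩
  have h2 := key (p : R) (TensorProduct.rid R B w)
  rw [LinearEquiv.symm_apply_apply, hw, LinearEquiv.apply_symm_apply, Algebra.smul_def, map_natCast] at h2
  exact h2

theorem scal_natCast (q : ℕ) {Y : Scheme.{u}} [Y.Over (Spec (CommRingCat.of A))] (W : Y.Opens) :
    AmpleVan.scal A W (q : A) = (q : Γ(Y, W)) := map_natCast _ q

theorem pow_eq_zero' (hpm : IsLocalRing.maximalIdeal A = Ideal.span {(p : A)}) (k : ℕ)
    (W : (CohB1.thick f m k).Opens) : (p : Γ(CohB1.thick f m k, W)) ^ (k + 1) = 0 := by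
  have h := Algz7.scal_eq_zero (sys f) k W (a := (p : A) ^ (k + 1))
    (Ideal.pow_mem_pow (hpm.ge (Ideal.mem_span_singleton_self _)) _)
  have h' := scal_natCast (A := A) p (Y := (sys f).X k) W
  rw [map_pow, h'] at h
  exact h

/-- The step of the filtration. -/
theorem exists_step [IsProper f] [Flat f] (hpm : IsLocalRing.maximalIdeal A = Ideal.span {(p : A)}) (hp0 : (p : A) ≠ 0)
    (hp : p.Prime) (hp2 : 2 < p) (h2 : Subsingleton (Coh.HH (CohB1.thick f m 0) (Coh.structureModule _) 2))
    (k : ℕ) (L : X.Modules) (hL : PicF.IsInvertible L)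
    (hLk : Nonempty ((Scheme.Modules.pullback (CohB1.thickι f m (k + 1))).obj L ≅ Coh.structureModule _)) :
    ∃ D : X.Modules, PicF.IsInvertible D ∧
      Nonempty ((Scheme.Modules.pullback (CohB1.thickι f m k)).obj D ≅ Coh.structureModule _) ∧
      Nonempty ((Scheme.Modules.pullback (CohB1.thickι f m (k + 2))).obj L ≅
        CohB1.tensorPow ((Scheme.Modules.pullback (CohB1.thickι f m (k + 2))).obj D) p) := by
  let i := CohB1.thickTrans f m (k + 1)
  let j := CohB1.thickTrans f m k
  haveI : IsClosedImmersion i := AmpleVan.AdicSys.closed_i (sys f) (k + 1)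
  haveI : Surjective i := Algz7.surjective_i (sys f) (k + 1)
  obtain ⟨φ₀⟩ := hLk
  let φ : (Scheme.Modules.pullback i).obj ((Scheme.Modules.pullback (CohB1.thickι f m (k + 2))).obj L) ≅
      Coh.structureModule _ :=
    (Scheme.Modules.pullbackComp _ _).app L ≪≫ (Scheme.Modules.pullbackCongr (trans_ι f (k + 1))).app L ≪≫ φ₀
  have hann : ∀ (W : (CohB1.thick f m (k + 2)).Opens) (a : Γ(CohB1.thick f m (k + 2), W)),
      (p : Γ(CohB1.thick f m (k + 2), W)) ^ (k + 1 + 1) * a = 0 →
        i.app W ((p : Γ(CohB1.thick f m (k + 2), W)) ^ (k + 1) * a) = 0 := by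
    intro W a ha
    refine AModX.eq_of_locally (M := Coh.structureModule (CohB1.thick f m (k + 1))) _ _ fun q hq => ?_
    obtain ⟨_, ⟨V, hV, rfl⟩, hqV, hVW⟩ := (CohB1.thick f m (k + 2)).isBasis_affineOpens.exists_subset_of_mem_open
      (show i q ∈ W from hq) W.2
    refine ⟨i ⁻¹ᵁ V, i.preimage_mono hVW, hqV, ?_⟩
    show AModX.resR _ _ = AModX.resR _ 0
    rw [map_zero, ← app_resR' i hVW, map_mul, map_pow, map_natCast]
    let ρ : A ⧸ m ^ (k + 2 + 1) →+* Γ(CohB1.thick f m (k + 2), V) :=
      ((CohB1.thickToBase f m (k + 2)).appLE ⊤ V le_top).hom.comp (Scheme.ΓSpecIso (CommRingCat.of (A ⧸ m ^ (k + 2 + 1)))).inv.hom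
    letI := ρ.toAlgebra
    haveI : Module.Flat (A ⧸ m ^ (k + 2 + 1)) Γ(CohB1.thick f m (k + 2), V) :=
      RingHom.Flat.comp (.of_bijective (ConcreteCategory.bijective_of_isIso
        (Scheme.ΓSpecIso (CommRingCat.of (A ⧸ m ^ (k + 2 + 1)))).inv))
        (Flat.flat_appLE (CohB1.thickToBase f m (k + 2)) (isAffineOpen_top _) hV _)
    have ha' : (p : Γ(CohB1.thick f m (k + 2), V)) ^ (k + 1 + 1) * AModX.resR hVW a = 0 := by
      have := congrArg (AModX.resR hVW) ha
      rwa [map_mul, map_pow, map_natCast, map_zero] at this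
    obtain ⟨b, hb⟩ := exists_eq_mul_of_flat (A := A) hpm hp0 (k + 1) (AModX.resR hVW a) ha'
    rw [hb, ← mul_assoc, ← pow_succ, map_mul, map_pow, map_natCast, pow_eq_zero' f hpm (k + 1), zero_mul]
  have hker : ∀ U : (CohB1.thick f m (k + 2)).affineOpens,
      i.ker.ideal U = Ideal.span {(p : Γ(CohB1.thick f m (k + 2), U.1)) ^ (k + 1 + 1)} := fun U => by
    have h1 := AmpleVan.ker_ideal_of_isPullback ((sys f).square_i (k + 1)) U
    have h' := scal_natCast (A := A) p (Y := (sys f).X (k + 2)) U.1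
    rw [show (IsLocalRing.maximalIdeal A) ^ (k + 1 + 1) = Ideal.span {(p : A) ^ (k + 1 + 1)} by
      rw [hpm, Ideal.span_singleton_pow], Ideal.map_span, Set.image_singleton, map_pow, h'] at h1
    exact h1
  obtain ⟨M, hM, ⟨e₁⟩, hD⟩ := main i j (p := p) (n := k + 1) hp hp2 (Nat.le_add_left 1 k) hker
    (pow_eq_zero' f hpm (k + 2)) (pow_eq_zero' f hpm (k + 1)) (pow_eq_zero' f hpm k) hann _
    (PicClLib.isInvertible_pullback _ hL) φ
  obtain ⟨D, hD', ⟨e₂⟩⟩ := exists_extend_from_level f h2 (k + 1) M hM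
  refine ⟨D, hD', ⟨(Scheme.Modules.pullbackCongr (trans_ι f k).symm).app D ≪≫
    ((Scheme.Modules.pullbackComp j _).app D).symm ≪≫ (Scheme.Modules.pullback j).mapIso e₂ ≪≫ e₁⟩,
    hD _ (PicClLib.isInvertible_pullback _ hD') ⟨(Scheme.Modules.pullbackComp _ _).app D ≪≫
      (Scheme.Modules.pullbackCongr (trans_ι f (k + 1))).app D ≪≫ e₂⟩⟩

end Groth.Agent.PicWitt
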